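import Groth.Agent.ProjPureLib.Noeth
import Groth.Agent.S1223
import Groth.Agent.S1461
import Groth.Agent.S1462
import Groth.Agent.S9737
import Groth.Agent.S9759
import Mathlib

/-!
# Flat algebras of finite presentation with geometrically integral fibres are projective
-/

set_option autoImplicit false
set_option linter.style.haveILetI false
set_option maxHeartbeats 1000000
set_option backward.isDefEq.respectTransparency false
set_option backward.isDefEq.respectTransparency.types false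

universe u

open CategoryTheory CategoryTheory.Limits AlgebraicGeometry TensorProduct

noncomputable section

namespace Groth.Agent.ProjPureLib

theorem isPushout_appTop_affine {X Y S T : Scheme.{u}} {g : Y ⟶ X} {iY : Y ⟶ T} {iX : X ⟶ S} {f : T ⟶ S}
    (H : IsPullback g iY iX f) [IsAffine S] [IsAffine T] [IsAffine X] :
    IsPushout iX.appTop f.appTop g.appTop iY.appTop := by
  have h := (isIso_pushoutSection_iff H (US := ⊤) (UT := ⊤) (UX := ⊤) (UY := ⊤) le_top le_top (by simp)).mp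
    (isIso_pushoutSection_of_isAffineOpen H (US := ⊤) (UT := ⊤) (UX := ⊤) (UY := ⊤)
      le_top le_top (by simp) (isAffineOpen_top S) (isAffineOpen_top T) (isAffineOpen_top X))
  have e : ∀ {A B : Scheme.{u}} (k : A ⟶ B) (hk : (⊤ : A.Opens) ≤ k ⁻¹ᵁ ⊤),
      k.appLE ⊤ ⊤ hk = k.appTop := fun k hk => (Scheme.Hom.app_eq_appLE k).symm
  rwa [e, e, e, e] at h

/-- The affine morphism form. -/
theorem projective_of_geometricallyIntegral {X S : Scheme.{u}} (f : X ⟶ S) [IsAffine X] [IsAffine S] [Flat f]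
    [LocallyOfFinitePresentation f] [GeometricallyIntegral f] :
    @Module.Projective Γ(S, ⊤) _ Γ(X, ⊤) _ (f.appTop).hom.toAlgebra.toModule := by
  obtain ⟨X₁, S₁, f₁, g₁, g₁', _, _, h₁, hS₁, _, hP₁⟩ := S9759.result f
  obtain ⟨X₂, S₂, f₂, g₂, g₂', _, _, h₂, hS₂, _, hP₂⟩ := S1461.result f
  obtain ⟨X₃, S₃, f₃, g₃, g₃', _, _, h₃, hS₃, _, hP₃⟩ := S1462.result f
  obtain ⟨X₄, S₄, f₄, g₄, g₄', _, _, h₄, hS₄, _, hP₄, hQ₄⟩ :=
    S9737.result @GeometricallyReduced @GeometricallyIrreducible f f₂ g₂ g₂' h₂ f₃ g₃ g₃' h₃ hS₂ hS₃ hP₂ hP₃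
  haveI := hP₄
  haveI := hQ₄
  obtain ⟨X₀, S₀, f₀, g, g', _, _, h, hS₀, hft, hflat, hint⟩ :=
    S9737.result @Flat @GeometricallyIntegral f f₁ g₁ g₁' h₁ f₄ g₄ g₄' h₄ hS₁ hS₄ hP₁
      (GeometricallyIntegral.of_geometricallyReduced_of_geometricallyIrreducible f₄)
  letI aB₀ : Algebra Γ(S₀, ⊤) Γ(X₀, ⊤) := f₀.appTop.hom.toAlgebra
  letI aA : Algebra Γ(S₀, ⊤) Γ(S, ⊤) := g.appTop.hom.toAlgebra
  letI aB : Algebra Γ(S, ⊤) Γ(X, ⊤) := f.appTop.hom.toAlgebra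
  letI a₀ : Algebra Γ(S₀, ⊤) Γ(X, ⊤) := (f.appTop.hom.comp g.appTop.hom).toAlgebra
  letI a₁ : Algebra Γ(X₀, ⊤) Γ(X, ⊤) := g'.appTop.hom.toAlgebra
  haveI : IsScalarTower Γ(S₀, ⊤) Γ(S, ⊤) Γ(X, ⊤) := IsScalarTower.of_algebraMap_eq fun _ => rfl
  have hpo := isPushout_appTop_affine h
  haveI : IsScalarTower Γ(S₀, ⊤) Γ(X₀, ⊤) Γ(X, ⊤) := IsScalarTower.of_algebraMap_eq fun x =>
    (congrArg (fun q : Γ(S₀, ⊤) ⟶ Γ(X, ⊤) => q.hom x) hpo.w).symm
  have hA : Algebra.IsPushout Γ(S₀, ⊤) Γ(S, ⊤) Γ(X₀, ⊤) Γ(X, ⊤) :=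
    (CommRingCat.isPushout_iff_isPushout (R := Γ(S₀, ⊤)) (S := Γ(X₀, ⊤)) (R' := Γ(S, ⊤)) (S' := Γ(X, ⊤))).1 hpo.flip
  haveI : IsNoetherianRing Γ(S₀, ⊤) := Algebra.FiniteType.isNoetherianRing ℤ _
  haveI : Module.Flat Γ(S₀, ⊤) Γ(X₀, ⊤) :=
    RingHom.flat_algebraMap_iff.1 ((HasRingHomProperty.iff_of_isAffine (P := @Flat)).1 hflat)
  haveI : Algebra.FiniteType Γ(S₀, ⊤) Γ(X₀, ⊤) :=
    RingHom.finiteType_algebraMap.1 ((HasRingHomProperty.iff_of_isAffine (P := @LocallyOfFiniteType)).1 hft)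
  have hgi : FlatCA.GeomIntegralFibres Γ(S₀, ⊤) Γ(X₀, ⊤) :=
    ((MorphismProperty.arrow_mk_iso_iff @GeometricallyIntegral (arrowIsoSpecΓOfIsAffine f₀)).1 hint :)
  haveI := projective_of_isUnivPure (A := Γ(S₀, ⊤)) (B := Γ(X₀, ⊤)) (N := Γ(X₀, ⊤)) (S1223.result hgi)
  haveI := hA
  exact Module.Projective.of_equiv (Algebra.IsPushout.equiv Γ(S₀, ⊤) Γ(S, ⊤) Γ(X₀, ⊤) Γ(X, ⊤)).toLinearEquiv

end Groth.Agent.ProjPureLib
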