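import Groth.Agent.ProjPureLib.Basic
import Groth.Agent.RegLocal.Complete
import Groth.Agent.S2591
import Groth.Agent.S6270
import Groth.Agent.S0585

/-!
# Flat universally pure modules over Noetherian rings are projective

Noetherian induction: generically the module is free, and along a principal ideal one passes to the
completion, where purity makes the module a pure submodule of a Mittag-Leffler one.
-/

set_option autoImplicit false
set_option linter.style.haveILetI false
set_option maxHeartbeats 1000000
set_option backward.isDefEq.respectTransparency false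

universe u

open TensorProduct

noncomputable section

namespace Groth.Agent.ProjPureLib

attribute [local instance] Algebra.TensorProduct.rightAlgebra

section BaseChange

variable {A B : Type u} [CommRing A] [CommRing B] [Algebra A B]
  {N : Type u} [AddCommGroup N] [Module B N] [Module A N] [IsScalarTower A B N]
  (T : Type u) [CommRing T] [Algebra A T]

/-- The base change of the module as a module over the base changed algebra. -/
def bcEquiv : (T ⊗[A] B) ⊗[B] N ≃ₗ[T] T ⊗[A] N :=
  Algebra.IsPushout.cancelBaseChange A T B (T ⊗[A] B) N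

/-- Reduction of a base change modulo an ideal. -/
def quotEquiv (I : Ideal T) :
    (T ⧸ I) ⊗[A] N ≃ₗ[T ⧸ I] ((T ⊗[A] B) ⊗[B] N) ⧸ (I • ⊤ : Submodule T ((T ⊗[A] B) ⊗[B] N)) :=
  ((TensorProduct.AlgebraTensorModule.cancelBaseChange A T (T ⧸ I) (T ⧸ I) N).symm.trans
    (TensorProduct.AlgebraTensorModule.congr (LinearEquiv.refl (T ⧸ I) (T ⧸ I)) (bcEquiv T).symm)).trans
    (LinearEquiv.extendScalarsOfSurjective Ideal.Quotient.mk_surjective
      (TensorProduct.quotTensorEquivQuotSMul ((T ⊗[A] B) ⊗[B] N) I))

variable [Algebra.FiniteType A B] [Module.Finite B N] [Module.Flat A N]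

/-- Over a complete Noetherian ring the base change is projective when it is so modulo the ideal. -/
theorem projective_tensor_of_complete (hN : FlatCA.IsUnivPure A B N) [IsNoetherianRing T] (I : Ideal T)
    [IsAdicComplete I T] [Module.Projective (T ⧸ I) ((T ⧸ I) ⊗[A] N)] : Module.Projective T (T ⊗[A] N) := by
  let TB := T ⊗[A] B
  let NT := TB ⊗[B] N
  haveI : Algebra.FiniteType T TB := inferInstanceAs (Algebra.FiniteType T (T ⊗[A] B))
  haveI : Module.Finite TB NT := Module.Finite.base_change B TB N
  haveI : Module.Flat T (T ⊗[A] N) := inferInstance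
  haveI : Module.Flat T NT := Module.Flat.of_linearEquiv (bcEquiv T)
  haveI : Module.Projective (T ⧸ I) (NT ⧸ (I • ⊤ : Submodule T NT)) := Module.Projective.of_equiv (quotEquiv T I)
  haveI : Module.Projective T NT := by
    refine projective_of_adicComplete (S := TB) I NT fun p q _ _ _ hass htop => ?_
    obtain ⟨m, hm, hpm⟩ := Ideal.exists_le_maximal p (inferInstance : p.IsPrime).ne_top
    haveI := hm
    have hIm : I ≤ m := (IsAdicComplete.le_jacobson_bot I).trans (sInf_le ⟨bot_le, hm⟩)
    refine hN (m.comap (algebraMap A T)) T TB NT (TensorProduct.mk B TB N 1) p m q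
      ⟨inferInstanceAs (Algebra.IsPushout A B T (T ⊗[A] B)), TensorProduct.isBaseChange B N TB, hpm, ⟨rfl⟩,
        inferInstance, hass, fun P' _ hqP hP' => ?_⟩
    refine (inferInstance : P'.IsPrime).ne_top (top_le_iff.1 (htop ▸ sup_le (Ideal.map_le_iff_le_comap.2 ?_) hqP))
    exact hIm.trans hP'.over.le
  exact Module.Projective.of_equiv (bcEquiv (B := B) T)

end BaseChange

/-- A product of two flat modules is flat. -/
theorem flat_prod {R M P : Type u} [CommRing R] [AddCommGroup M] [Module R M] [AddCommGroup P] [Module R P]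
    [Module.Flat R M] [Module.Flat R P] : Module.Flat R (M × P) := by
  refine Module.Flat.iff_lTensor_preserves_injective_linearMap.2 fun X Y _ _ _ _ g hg =>
    (injective_iff_map_eq_zero _).2 fun x hx => ?_
  have h₁ : (LinearMap.fst R M P).rTensor X x = 0 :=
    Module.Flat.lTensor_preserves_injective_linearMap (M := M) g hg (by
      rw [← LinearMap.comp_apply, LinearMap.lTensor_comp_rTensor, ← LinearMap.rTensor_comp_lTensor,
        LinearMap.comp_apply, hx, map_zero, map_zero])
  have h₂ : (LinearMap.snd R M P).rTensor X x = 0 :=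
    Module.Flat.lTensor_preserves_injective_linearMap (M := P) g hg (by
      rw [← LinearMap.comp_apply, LinearMap.lTensor_comp_rTensor, ← LinearMap.rTensor_comp_lTensor,
        LinearMap.comp_apply, hx, map_zero, map_zero])
  have h : (LinearMap.inl R M P).comp (LinearMap.fst R M P) + (LinearMap.inr R M P).comp (LinearMap.snd R M P) =
      LinearMap.id := LinearMap.ext fun m => by simp
  rw [← LinearMap.id_apply (R := R) x, ← LinearMap.rTensor_id (M := X), ← h, LinearMap.rTensor_add, LinearMap.add_apply,
    LinearMap.rTensor_comp_apply, LinearMap.rTensor_comp_apply, h₁, h₂, map_zero, map_zero, add_zero]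

/-- A projective module over a factor of a product is projective over the product. -/
theorem projective_of_projection {R R₁ : Type u} [CommRing R] [CommRing R₁] [Algebra R R₁] [Module.Projective R R₁]
    (M : Type u) [AddCommGroup M] [Module R₁ M] [Module R M] [IsScalarTower R R₁ M] [Module.Projective R₁ M] :
    Module.Projective R M := by
  obtain ⟨s, hs⟩ := (Module.projective_def (R := R₁) (P := M)).1 inferInstance
  haveI : Module.Projective R (M →₀ R₁) := by
    classical
    exact Module.Projective.of_equiv (finsuppLequivDFinsupp (ι := M) R).symm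
  exact Module.Projective.of_split (s.restrictScalars R) ((Finsupp.linearCombination R₁ id).restrictScalars R)
    (LinearMap.ext hs)

/-- A module is projective over a product of two rings when both of its components are projective. -/
theorem projective_prod_tensor {A : Type u} [CommRing A] (T₁ T₂ : Type u) [CommRing T₁] [CommRing T₂]
    [Algebra A T₁] [Algebra A T₂] (N : Type u) [AddCommGroup N] [Module A N]
    [Module.Projective T₁ (T₁ ⊗[A] N)] [Module.Projective T₂ (T₂ ⊗[A] N)] :
    Module.Projective (T₁ × T₂) ((T₁ × T₂) ⊗[A] N) := by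
  letI : Algebra (T₁ × T₂) T₁ := (RingHom.fst T₁ T₂).toAlgebra
  letI : Algebra (T₁ × T₂) T₂ := (RingHom.snd T₁ T₂).toAlgebra
  haveI : IsScalarTower A (T₁ × T₂) T₁ := IsScalarTower.of_algebraMap_eq fun _ => rfl
  haveI : IsScalarTower A (T₁ × T₂) T₂ := IsScalarTower.of_algebraMap_eq fun _ => rfl
  let inl : T₁ →ₗ[T₁ × T₂] T₁ × T₂ :=
    { toFun := fun x => (x, 0), map_add' := fun x y => Prod.ext rfl (add_zero (0 : T₂)).symm
      map_smul' := fun r x => Prod.ext rfl (mul_zero r.2).symm }
  let inr : T₂ →ₗ[T₁ × T₂] T₁ × T₂ :=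
    { toFun := fun x => (0, x), map_add' := fun x y => Prod.ext (add_zero (0 : T₁)).symm rfl
      map_smul' := fun r x => Prod.ext (mul_zero r.1).symm rfl }
  let p₁ := (Algebra.linearMap (T₁ × T₂) T₁)
  let p₂ := (Algebra.linearMap (T₁ × T₂) T₂)
  haveI : Module.Projective (T₁ × T₂) T₁ := Module.Projective.of_split inl p₁ (LinearMap.ext fun _ => rfl)
  haveI : Module.Projective (T₁ × T₂) T₂ := Module.Projective.of_split inr p₂ (LinearMap.ext fun _ => rfl)
  haveI := projective_of_projection (R := T₁ × T₂) (R₁ := T₁) (T₁ ⊗[A] N)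
  haveI := projective_of_projection (R := T₁ × T₂) (R₁ := T₂) (T₂ ⊗[A] N)
  have hsum : inl ∘ₗ p₁ + inr ∘ₗ p₂ = LinearMap.id :=
    LinearMap.ext fun r => Prod.ext (add_zero r.1) (zero_add r.2)
  refine Module.Projective.of_split
    ((TensorProduct.AlgebraTensorModule.map p₁ LinearMap.id).prod (TensorProduct.AlgebraTensorModule.map p₂ LinearMap.id))
    ((TensorProduct.AlgebraTensorModule.map inl LinearMap.id).coprod (TensorProduct.AlgebraTensorModule.map inr LinearMap.id))
    (TensorProduct.AlgebraTensorModule.ext fun r n => ?_)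
  show inl (p₁ r) ⊗ₜ[A] n + inr (p₂ r) ⊗ₜ[A] n = r ⊗ₜ n
  rw [← TensorProduct.add_tmul]
  exact congrArg (· ⊗ₜ[A] n) (LinearMap.congr_fun hsum r)

variable {A B : Type u} [CommRing A] [CommRing B] [Algebra A B]
  {N : Type u} [AddCommGroup N] [Module B N] [Module A N] [IsScalarTower A B N]
  [Algebra.FiniteType A B] [Module.Finite B N] [Module.Flat A N]

/-- The inductive step. -/
theorem projective_step (hN : FlatCA.IsUnivPure A B N) (R : Type u) [CommRing R] [IsNoetherianRing R] [Algebra A R]
    (ih : ∀ f : R, f ≠ 0 → Module.Projective (R ⧸ Ideal.span {f}) ((R ⧸ Ideal.span {f}) ⊗[A] N)) :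
    Module.Projective R (R ⊗[A] N) := by
  classical
  rcases subsingleton_or_nontrivial R with hR | hR
  · haveI : Module.Free R (R ⊗[A] N) := Module.Free.of_subsingleton' R _
    infer_instance
  let S := R ⊗[A] B
  let M := S ⊗[B] N
  haveI : Algebra.FiniteType R S := inferInstanceAs (Algebra.FiniteType R (R ⊗[A] B))
  haveI : Algebra.FinitePresentation R S := Algebra.FinitePresentation.of_finiteType.1 inferInstance
  haveI : IsNoetherianRing S := Algebra.FiniteType.isNoetherianRing R S
  haveI : Module.Finite S M := Module.Finite.base_change B S N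
  haveI : Module.FinitePresentation S M := Module.finitePresentation_of_finite S M
  haveI : Module.Flat R M := Module.Flat.of_linearEquiv (bcEquiv (B := B) (N := N) R)
  obtain ⟨l, hl, hfree⟩ := S2591.result (A := R) (B := S) M
  have hex : ∃ i : ℕ, ∃ hi : i < l.length, ¬ IsNilpotent l[i] := by
    by_contra h
    push_neg at h
    apply one_ne_zero (α := R)
    have hle : Ideal.span {a | a ∈ l} ≤ nilradical R := Ideal.span_le.2 fun a ha => by
      obtain ⟨i, hi, rfl⟩ := List.mem_iff_getElem.1 ha
      exact h i hi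
    obtain ⟨k, hk⟩ := hle (hl ▸ Submodule.mem_top : (1 : R) ∈ Ideal.span {a | a ∈ l})
    rwa [one_pow] at hk
  obtain ⟨hi, hnil⟩ := Nat.find_spec hex
  let i := Nat.find hex
  let f := l[i]
  let Rf := Localization.Away f
  let J : Ideal Rf := (Ideal.span {a | a ∈ l.take i}).map (algebraMap R Rf)
  haveI : IsNoetherianRing Rf := IsLocalization.isNoetherianRing (Submonoid.powers f) Rf inferInstance
  have hJ : J ≤ nilradical Rf := by
    refine Ideal.map_le_iff_le_comap.2 (Ideal.span_le.2 fun a ha => ?_)
    obtain ⟨k, hk, rfl⟩ := List.mem_iff_getElem.1 ha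
    rw [List.length_take] at hk
    have hk' : IsNilpotent l[k] := by
      by_contra hc
      exact Nat.find_min hex (show k < i by omega) ⟨by omega, hc⟩
    rw [List.getElem_take]
    exact (mem_nilradical).2 (hk'.map (algebraMap R Rf))
  have hJnil : IsNilpotent J := by
    obtain ⟨k, hk⟩ := IsNoetherianRing.isNilpotent_nilradical Rf
    exact ⟨k, le_bot_iff.1 ((pow_le_pow_left' hJ k).trans hk.le)⟩
  haveI : Module.Free (Rf ⧸ J) ((Rf ⧸ J) ⊗[R] M) := hfree i hi
  haveI hloc : Module.Projective Rf (Rf ⊗[A] N) := by
    let e : (Rf ⧸ J) ⊗[R] M ≃ₗ[Rf ⧸ J] (Rf ⧸ J) ⊗[Rf] (Rf ⊗[A] N) :=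
      ((TensorProduct.AlgebraTensorModule.congr (LinearEquiv.refl (Rf ⧸ J) (Rf ⧸ J)) (bcEquiv (B := B) (N := N) R)).trans
        (TensorProduct.AlgebraTensorModule.cancelBaseChange A R (Rf ⧸ J) (Rf ⧸ J) N)).trans
        (TensorProduct.AlgebraTensorModule.cancelBaseChange A Rf (Rf ⧸ J) (Rf ⧸ J) N).symm
    exact S6270.result J hJnil _ (Module.Projective.of_equiv e)
  have hf : f ≠ 0 := fun h => hnil ⟨1, by rw [pow_one]; exact h⟩
  let I := Ideal.span {f}
  haveI := ih f hf
  let Rh := AdicCompletion I R
  let I' := I.map (algebraMap R Rh)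
  have hI : I.FG := ⟨{f}, by simp [I]⟩
  haveI : IsAdicComplete I' Rh := AdicCompletion.isAdicComplete_self I hI
  haveI : IsNoetherianRing Rh := RegLocal.isNoetherianRing_adicCompletion I hI
  let ψ : R ⧸ I →ₐ[A] Rh ⧸ I' := Ideal.quotientMapₐ I' (IsScalarTower.toAlgHom A R Rh) Ideal.le_comap_map
  letI : Algebra (R ⧸ I) (Rh ⧸ I') := ψ.toRingHom.toAlgebra
  haveI : IsScalarTower A (R ⧸ I) (Rh ⧸ I') := IsScalarTower.of_algebraMap_eq fun x => (ψ.commutes x).symm
  haveI : Module.Projective (Rh ⧸ I') ((Rh ⧸ I') ⊗[A] N) :=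
    Module.Projective.of_equiv
      (TensorProduct.AlgebraTensorModule.cancelBaseChange A (R ⧸ I) (Rh ⧸ I') (Rh ⧸ I') N)
  haveI := projective_tensor_of_complete Rh hN I'
  haveI := projective_prod_tensor (A := A) Rf Rh N
  haveI : Module.Flat R (Rf × Rh) := flat_prod
  haveI : Module.FaithfullyFlat R (Rf × Rh) := by
    refine Module.FaithfullyFlat.of_comap_surjective fun p => ?_
    by_cases hp : f ∈ p.asIdeal
    · let ev : Rh →ₐ[R] R ⧸ I := AdicCompletion.evalOneₐ I
      obtain ⟨q, hq⟩ : p ∈ Set.range (PrimeSpectrum.comap (Ideal.Quotient.mk I)) := by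
        rw [_root_.range_comap_of_surjective _ _ Ideal.Quotient.mk_surjective, Ideal.mk_ker]
        exact Ideal.span_le.2 (Set.singleton_subset_iff.2 hp)
      refine ⟨PrimeSpectrum.comap (ev.toRingHom.comp (RingHom.snd Rf Rh)) q, ?_⟩
      rw [← PrimeSpectrum.comap_comp_apply, ← hq]
      congr 2
    · obtain ⟨q, hq⟩ : p ∈ Set.range (PrimeSpectrum.comap (algebraMap R Rf)) := by
        rw [PrimeSpectrum.localization_away_comap_range Rf f]
        exact hp
      exact ⟨PrimeSpectrum.comap (RingHom.fst Rf Rh) q, by rw [← PrimeSpectrum.comap_comp_apply]; exact hq⟩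
  haveI : Module.Projective (Rf × Rh) ((Rf × Rh) ⊗[R] (R ⊗[A] N)) :=
    Module.Projective.of_equiv (TensorProduct.AlgebraTensorModule.cancelBaseChange A R (Rf × Rh) (Rf × Rh) N).symm
  exact S0585.result R (Rf × Rh) (R ⊗[A] N)

/-- Flat universally pure modules of finite type over a Noetherian ring are projective. -/
theorem projective_of_isUnivPure [IsNoetherianRing A] (hN : FlatCA.IsUnivPure A B N) : Module.Projective A N := by
  have key : ∀ J : Ideal A, ∀ (R : Type u) [CommRing R] [Algebra A R],
      Function.Surjective (algebraMap A R) → RingHom.ker (algebraMap A R) = J → Module.Projective R (R ⊗[A] N) := by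
    intro J
    induction J using IsNoetherian.induction with
    | hgt J ih =>
      intro R _ _ hsurj hker
      haveI : IsNoetherianRing R := isNoetherianRing_of_surjective A R (algebraMap A R) hsurj
      refine projective_step hN R fun f hf => ?_
      refine ih _ ?_ (R ⧸ Ideal.span {f}) (Ideal.Quotient.mk_surjective.comp hsurj) rfl
      obtain ⟨a, rfl⟩ := hsurj f
      refine lt_of_le_of_ne (fun x hx => ?_) fun he => hf ?_
      · show Ideal.Quotient.mk _ (algebraMap A R x) = 0
        rw [RingHom.mem_ker.1 (show x ∈ RingHom.ker (algebraMap A R) by rw [hker]; exact hx), map_zero]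
      · have ha : a ∈ J := he.symm ▸ (show Ideal.Quotient.mk _ (algebraMap A R a) = 0 from
          Ideal.Quotient.eq_zero_iff_mem.2 (Ideal.mem_span_singleton_self _))
        exact RingHom.mem_ker.1 (show a ∈ RingHom.ker (algebraMap A R) by rw [hker]; exact ha)
  haveI := key _ A Function.surjective_id rfl
  exact Module.Projective.of_equiv (TensorProduct.lid A N)

end Groth.Agent.ProjPureLib
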