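import Groth.Prelude.Def_FlatCA
import Groth.Agent.MLProjLib.Countable
import Groth.Agent.S1198
import Groth.Agent.S1200
import Groth.Agent.S6338

/-!
# Projectivity of flat modules of finite type over complete base rings
-/

set_option autoImplicit false
set_option linter.style.haveILetI false

universe u

open TensorProduct

namespace Groth.Agent.ProjPureLib

/-- A finite module over an algebra of finite type is countably generated over the base. -/
theorem isCountablyGenerated (R S : Type u) [CommRing R] [CommRing S] [Algebra R S] [Algebra.FiniteType R S]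
    (N : Type u) [AddCommGroup N] [Module S N] [Module R N] [IsScalarTower R S N] [Module.Finite S N] :
    CAlg.IsCountablyGenerated R N := by
  classical
  obtain ⟨m, φ, hφ⟩ := Algebra.FiniteType.iff_quotient_mvPolynomial''.1 (inferInstance : Algebra.FiniteType R S)
  obtain ⟨k, g, hg⟩ := Module.Finite.exists_fin (R := S) (M := N)
  refine ⟨Set.range fun x : (Fin m →₀ ℕ) × Fin k => φ (MvPolynomial.monomial x.1 1) • g x.2,
    Set.countable_range _, eq_top_iff.2 fun y _ => ?_⟩
  have hy : y ∈ Submodule.span S (Set.range g) := hg ▸ Submodule.mem_top
  obtain ⟨c, rfl⟩ := Submodule.mem_span_range_iff_exists_fun S |>.1 hy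
  refine sum_mem fun i _ => ?_
  obtain ⟨P, hP⟩ := hφ (c i)
  rw [← hP, P.as_sum, map_sum, Finset.sum_smul]
  refine sum_mem fun d _ => ?_
  rw [show MvPolynomial.monomial d (P.coeff d) = P.coeff d • MvPolynomial.monomial d (1 : R) by
    rw [MvPolynomial.smul_monomial, smul_eq_mul, mul_one], map_smul, smul_assoc]
  exact Submodule.smul_mem _ _ (Submodule.subset_span ⟨(d, i), rfl⟩)

/-- A flat finite module over a finite type algebra over a complete Noetherian ring is projective over
the base when it is so modulo the ideal and the associated points of its fibres meet the zero locus. -/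
theorem projective_of_adicComplete {R S : Type u} [CommRing R] [CommRing S] [Algebra R S] [IsNoetherianRing R]
    (I : Ideal R) [IsAdicComplete I R] [Algebra.FiniteType R S]
    (N : Type u) [AddCommGroup N] [Module S N] [Module R N] [IsScalarTower R S N] [Module.Finite S N] [Module.Flat R N]
    [Module.Projective (R ⧸ I) (N ⧸ (I • ⊤ : Submodule R N))]
    (h : ∀ (p : Ideal R) (q : Ideal S) [p.IsPrime] [q.IsPrime] [q.LiesOver p],
      FlatCA.fiberIdeal p q ∈ associatedPrimes (p.Fiber S) (FlatCA.fiberMod p S N) → I.map (algebraMap R S) ⊔ q ≠ ⊤) :
    Module.Projective R N := by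
  haveI : IsNoetherianRing S := Algebra.FiniteType.isNoetherianRing R S
  have hu := S1200.result (S := S) I N h
  refine MLProjLib.projective_of_countablyGenerated
    (S6338.result R (AdicCompletion.of I N) (fun Q _ _ => ?_) (S1198.result R I N).2) (isCountablyGenerated R S N)
  exact (LinearMap.lTensor_inj_iff_rTensor_inj Q _).1 (hu Q)

end Groth.Agent.ProjPureLib
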